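import Cfsg.Agent.Lib.Forms.DicksonDihedral
import Cfsg.Agent.Lib.Classical.SmallIso
import Cfsg.Agent.Lib.Classical.GL2
import Cfsg.Agent.Lib.GW.ConsDGroupTwo
import Cfsg.Agent.Lib.PiClosed.Models
import Cfsg.Agent.Lib.Walter.RowsConditional
import Cfsg.Agent.Lib.Walter.Field.Torus

/-!
# The groups of Walter's list: exponent of the Sylow 2-subgroups and real elements

The 2-elements square to one, and some real element has a centraliser of odd order.
-/

set_option autoImplicit false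
set_option linter.unusedSectionVars false
set_option linter.style.haveILetI false

namespace Cfsg.Agent.RealEven

open Subgroup
open scoped MatrixGroups Pointwise
open Forms.KleinPSL

universe u

/-- The 2-elements square to one. -/
def SqOne (G : Type*) [Group G] : Prop := ∀ x : G, (∃ j : ℕ, orderOf x = 2 ^ j) → x * x = 1

/-- Some element other than one is real with centraliser of odd order. -/
def RealOdd (G : Type*) [Group G] : Prop :=
  ∃ g : G, g ≠ 1 ∧ IsConj g g⁻¹ ∧ Odd (Nat.card (centralizer ({g} : Set G)))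

section equiv

variable {G H : Type*} [Group G] [Group H]

theorem SqOne.of_equiv (h : SqOne H) (e : G ≃* H) : SqOne G := fun x ⟨j, hj⟩ =>
  e.injective (by rw [map_mul, map_one]; exact h (e x) ⟨j, by rwa [e.orderOf_eq]⟩)

theorem RealOdd.of_equiv (h : RealOdd H) (e : G ≃* H) : RealOdd G := by
  obtain ⟨g, hg, hc, ho⟩ := h
  refine ⟨e.symm g, fun e' => hg (e.symm.injective (e'.trans e.symm.map_one.symm)), ?_, ?_⟩
  · rw [← map_inv]
    exact e.symm.toMonoidHom.map_isConj hc
  · refine (Nat.card_congr (e.toEquiv.subtypeEquiv fun x => ?_)).symm ▸ ho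
    rw [mem_centralizer_singleton_iff, mem_centralizer_singleton_iff]
    conv_lhs => rw [← e.injective.eq_iff]
    simp

end equiv

variable {G : Type*} [Group G] [Finite G]

theorem realOdd_of {c y : G} (hc : c ≠ 1) (hy : y * c * y⁻¹ = c⁻¹)
    (hno : ∀ u : G, orderOf u = 2 → ¬ Commute c u) : RealOdd G := by
  refine ⟨c, hc, isConj_iff.2 ⟨y, hy⟩, Nat.not_even_iff_odd.1 fun he => ?_⟩
  haveI := Fact.mk Nat.prime_two
  obtain ⟨u, hu⟩ := exists_prime_orderOf_dvd_card' (G := centralizer ({c} : Set G)) 2 he.two_dvd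
  exact hno u (by rw [orderOf_coe, hu]) (mem_centralizer_singleton_iff.1 u.2).symm

/-- A Sylow 2-subgroup of order at most four in an insoluble group has exponent two. -/
theorem sqOne_of_card (hns : ¬ Group.IsSolvable G) (h8 : ¬ 8 ∣ Nat.card G) : SqOne G := by
  haveI := Fact.mk Nat.prime_two
  rintro x ⟨j, hj⟩
  obtain ⟨S, hS⟩ := (IsPGroup.of_card (p := 2) (n := j) (by rw [Nat.card_zpowers, hj]) :
    IsPGroup 2 ↥(zpowers x)).exists_le_sylow
  obtain ⟨k, hk⟩ := IsPGroup.iff_card.1 S.2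
  have hk2 : k ≤ 2 := by
    by_contra hlt
    exact h8 ((show 8 = 2 ^ 3 by norm_num) ▸
      (pow_dvd_pow 2 (show 3 ≤ k by omega)).trans (hk ▸ card_subgroup_dvd_card _))
  set z : (S : Subgroup G) := ⟨x, hS (mem_zpowers x)⟩
  suffices h : orderOf z ∣ 2 by
    have := congrArg Subtype.val (orderOf_dvd_iff_pow_eq_one.1 h)
    simpa [z, sq] using this
  obtain ⟨i, hi, hoz⟩ := (Nat.dvd_prime_pow Nat.prime_two).1 (hk ▸ orderOf_dvd_natCard z)
  rcases Nat.lt_or_ge i 2 with hlt | hge
  · rw [hoz, show 2 = 2 ^ 1 from rfl, ← pow_mul]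
    simpa using pow_dvd_pow 2 (show i ≤ 1 by omega)
  · exact (GW.ConsDGroup.not_cyclic_sylow hns S (isCyclic_of_orderOf_eq_card z
      (by rw [hoz, hk, le_antisymm hi (hk2.trans hge)]))).elim

section psl

variable {F : Type*} [Field F] [Fintype F]

local notation "PG" => Matrix.ProjectiveSpecialLinearGroup (Fin 2) F

theorem two_ne_zero_of_odd (hq : Odd (Fintype.card F)) : (2 : F) ≠ 0 := by
  intro h
  obtain ⟨n, hp, hn⟩ := FiniteField.card F (ringChar F)
  have h2 : ringChar F ∣ 2 := (ringChar.spec F 2).1 (by exact_mod_cast h)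
  rw [(Nat.prime_dvd_prime_iff_eq hp Nat.prime_two).1 h2] at hn
  exact Nat.not_even_iff_odd.2 hq (hn ▸ (Nat.even_pow.2 ⟨even_two, n.ne_zero⟩))

theorem card_pslTwo_odd (hq : Odd (Fintype.card F)) :
    2 * Nat.card PG = Fintype.card F * ((Fintype.card F - 1) * (Fintype.card F + 1)) := by
  have h := Classical.SmallIso.natCard_pslTwo F
  rwa [Classical.GL2.natCard_SL_two, Nat.gcd_eq_left (by obtain ⟨k, hk⟩ := hq; omega)] at h

theorem not_eight_dvd (hq : Fintype.card F % 8 = 3 ∨ Fintype.card F % 8 = 5) :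
    ¬ 8 ∣ Nat.card PG := by
  intro h
  have h2 := card_pslTwo_odd (F := F) (Nat.odd_iff.2 (by omega))
  obtain ⟨c, hc⟩ := h
  rw [hc] at h2
  set q := Fintype.card F with hqd
  obtain ⟨n, hn | hn⟩ : ∃ n, q = 8 * n + 3 ∨ q = 8 * n + 5 :=
    ⟨q / 8, by omega⟩
  all_goals
    rw [hn] at h2
    have h16 : 16 ∣ q * ((q - 1) * (q + 1)) := ⟨c, by rw [hn, ← h2]; ring⟩
    rw [hn] at h16
    rw [Nat.dvd_iff_mod_eq_zero, Nat.mul_mod, Nat.mul_mod (_ - 1)] at h16
    have h16n : n % 2 = 0 ∨ n % 2 = 1 := by omega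
  · rcases h16n with e | e
    · rw [show (8 * n + 3) % 16 = 3 by omega, show (8 * n + 3 - 1) % 16 = 2 by omega,
        show (8 * n + 3 + 1) % 16 = 4 by omega] at h16
      norm_num at h16
    · rw [show (8 * n + 3) % 16 = 11 by omega, show (8 * n + 3 - 1) % 16 = 10 by omega,
        show (8 * n + 3 + 1) % 16 = 12 by omega] at h16
      norm_num at h16
  · rcases h16n with e | e
    · rw [show (8 * n + 5) % 16 = 5 by omega, show (8 * n + 5 - 1) % 16 = 4 by omega,
        show (8 * n + 5 + 1) % 16 = 6 by omega] at h16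
      norm_num at h16
    · rw [show (8 * n + 5) % 16 = 13 by omega, show (8 * n + 5 - 1) % 16 = 12 by omega,
        show (8 * n + 5 + 1) % 16 = 14 by omega] at h16
      norm_num at h16

theorem sqOne_psl_odd (hq : Fintype.card F % 8 = 3 ∨ Fintype.card F % 8 = 5)
    (h3 : 3 < Fintype.card F) : SqOne PG := by
  haveI := Classical.Linear.isSimpleGroup_PSL_fin (n := 2) (F := F) le_rfl (fun _ => h3)
  refine sqOne_of_card (fun hsol => ?_) (not_eight_dvd hq)
  have hp := (IsSimpleGroup.comm_iff_isSolvable (G := PG)).2 hsol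
  obtain ⟨-, -, -, c, -, y, -, hc, hy⟩ := Forms.DicksonDihedral.exists_minus (F := F)
  obtain ⟨-, -, -, c', -, y', -, hc', hy'⟩ := Forms.DicksonDihedral.exists_plus (F := F)
  have key : ∀ {a b : PG}, b * a * b⁻¹ = a⁻¹ → orderOf a ≤ 2 := fun {a b} h => by
    rw [hp b a, mul_inv_cancel_right] at h
    exact Nat.le_of_dvd two_pos (orderOf_dvd_of_pow_eq_one (by rw [sq]; nth_rw 1 [h]; exact inv_mul_cancel a))
  have h1 := key hy
  have h2 := key hy'
  rw [hc, Nat.gcd_eq_left (by omega)] at h1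
  rw [hc', Nat.gcd_eq_left (by omega)] at h2
  omega

theorem sqOne_psl_even {a : ℕ} (hq : Fintype.card F = 2 ^ a) : SqOne PG := by
  classical
  haveI := Fact.mk Nat.prime_two
  have ha : a ≠ 0 := fun h => by
    have := Fintype.one_lt_card (α := F)
    rw [hq, h] at this
    simp at this
  haveI : CharP F 2 := by
    obtain ⟨p, hp⟩ := CharP.exists F
    obtain ⟨n, hpp, hn⟩ := FiniteField.card F p
    obtain rfl : p = 2 := (Nat.prime_dvd_prime_iff_eq hpp Nat.prime_two).1
      (hpp.dvd_of_dvd_pow (show p ∣ 2 ^ a by rw [← hq, hn]; exact dvd_pow_self p n.ne_zero))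
    exact hp
  set φ : Multiplicative F →* PG := (pi F).comp (Classical.GL2.uniHom F)
  have hinj : Function.Injective φ := PiClosed.uni_injective
  have hodd : ¬ 2 ∣ (2 ^ a - 1) * (2 ^ a + 1) := by
    have : 2 ∣ 2 ^ a := dvd_pow_self 2 ha
    have := Nat.two_pow_pos a
    rw [Nat.prime_two.dvd_mul]
    omega
  have hcard : Nat.card PG = 2 ^ a * ((2 ^ a - 1) * (2 ^ a + 1)) := by
    have h := Classical.SmallIso.natCard_pslTwo F
    rw [Classical.GL2.natCard_SL_two, hq,
      Forms.DicksonDihedral.gcd_two_eq_one (m := 2 ^ a - 1) (by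
        have : 2 ∣ 2 ^ a := dvd_pow_self 2 ha
        have := Nat.two_pow_pos a
        omega), one_mul] at h
    exact h
  have hr : Nat.card φ.range = 2 ^ a := by
    rw [← Nat.card_congr (MonoidHom.ofInjective hinj).toEquiv,
      Nat.card_congr Multiplicative.toAdd, Nat.card_eq_fintype_card, hq]
  let P : Sylow 2 PG := Sylow.ofCard φ.range (by
    rw [hr, hcard, Nat.factorization_mul (by positivity) (fun h => hodd (by rw [h]; exact dvd_zero 2)),
      Finsupp.add_apply, Nat.Prime.factorization_pow Nat.prime_two, Finsupp.single_eq_same,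
      Nat.factorization_eq_zero_of_not_dvd hodd, add_zero])
  rintro x ⟨j, hj⟩
  obtain ⟨S, hS⟩ := (IsPGroup.of_card (p := 2) (n := j) (by rw [Nat.card_zpowers, hj]) :
    IsPGroup 2 ↥(zpowers x)).exists_le_sylow
  obtain ⟨g, hg⟩ := MulAction.exists_smul_eq PG P S
  have hx : x ∈ MulAut.conj g • φ.range := by
    have h := hS (mem_zpowers x)
    rw [← hg, Sylow.coe_subgroup_smul] at h
    simpa [P] using h
  rw [mem_pointwise_smul_iff_inv_smul_mem] at hx
  obtain ⟨m, hm⟩ := hx
  have hsq : φ m * φ m = 1 := by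
    rw [← map_mul, ← map_one φ]
    exact congrArg φ (Multiplicative.toAdd.injective (CharTwo.add_self_eq_zero (Multiplicative.toAdd m)))
  rw [hm] at hsq
  apply ((MulAut.conj g)⁻¹ : MulAut PG).injective
  rw [map_mul, map_one]
  exact hsq

theorem realOdd_psl_even {a : ℕ} (hq : Fintype.card F = 2 ^ a) (ha : a ≠ 0) : RealOdd PG := by
  obtain ⟨-, -, -, c, -, y, -, hc, hy⟩ := Forms.DicksonDihedral.exists_plus (F := F)
  have h2 : 2 ∣ Fintype.card F := hq ▸ dvd_pow_self 2 ha
  have h1 := Fintype.one_lt_card (α := F)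
  rw [Forms.DicksonDihedral.gcd_two_eq_one (by omega), Nat.div_one] at hc
  refine realOdd_of (fun h => by rw [h, orderOf_one] at hc; omega) hy fun u hu hcu => ?_
  have h := hcu.orderOf_mul_eq_mul_orderOf_of_coprime (by
    rw [hc, hu]; exact Nat.coprime_two_right.2 (Nat.odd_iff.2 (by omega)))
  have hle := Forms.DicksonDihedral.orderOf_psl_le (c * u)
  rw [h, hc, hu] at hle
  omega

theorem card_dvd_of_commute (h2 : (2 : F) ≠ 0) {c u : PG} (hu : orderOf u = 2) (hcu : Commute c u) :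
    orderOf c ∣ 2 * Nat.card (Forms.KleinSL2.Circ F 1) := by
  obtain ⟨A, rfl⟩ := pi_surjective c
  obtain ⟨X, rfl⟩ := pi_surjective u
  have hX := (orderOf_pi_eq_two h2).1 hu
  rw [← natCard_normalizer h2 hX]
  refine (orderOf_map_dvd (pi F) A).trans (orderOf_dvd_natCard (⟨A, ?_⟩ :
    ↥(normalizer (zpowers X : Set SL(2, F)))) |> fun h => by rwa [orderOf_mk] at h)
  have hcon : A * X * A⁻¹ ∈ zpowers X := by
    rcases comm_cases hcu with h | h
    · rw [h, mul_inv_cancel_right]; exact mem_zpowers X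
    · rw [h, neg_mul, mul_inv_cancel_right]
      exact (four_mem h2 hX).2 (Or.inr (Or.inr (Or.inr rfl)))
  have hle : zpowers X ≤ (zpowers X).comap (MulAut.conj A).toMonoidHom :=
    zpowers_le.2 (by simpa using hcon)
  have heq : (zpowers X).map (MulAut.conj A).toMonoidHom = zpowers X :=
    eq_of_le_of_card_ge (map_le_iff_le_comap.2 hle)
      (card_map_of_injective (MulAut.conj A).injective).ge
  refine mem_normalizer_iff.2 fun z => ⟨fun hz => heq ▸ mem_map_of_mem _ hz, fun hz => ?_⟩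
  rw [← heq] at hz
  obtain ⟨w, hw, e⟩ := hz
  exact (MulAut.conj A).injective e ▸ hw

theorem realOdd_psl_odd (hq : Fintype.card F % 8 = 3 ∨ Fintype.card F % 8 = 5)
    (h3 : 3 < Fintype.card F) : RealOdd PG := by
  have hodd : Odd (Fintype.card F) := Nat.odd_iff.2 (by omega)
  have h2 := two_ne_zero_of_odd hodd
  obtain ⟨-, -, -, cp, -, yp, -, hcp, hyp⟩ := Forms.DicksonDihedral.exists_plus (F := F)
  obtain ⟨-, -, -, cm, -, ym, -, hcm, hym⟩ := Forms.DicksonDihedral.exists_minus (F := F)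
  rw [Nat.gcd_eq_left (by omega)] at hcp hcm
  have main : ∀ (n m : ℕ), Odd n → 1 < n → (2 * n + 2 = m ∨ m + 2 = 2 * n) →
      Nat.card (Forms.KleinSL2.Circ F 1) = m → ∀ c y : PG, orderOf c = n → y * c * y⁻¹ = c⁻¹ →
        RealOdd PG := by
    intro n m hn hn1 hnm hm c y hc hy
    refine realOdd_of (fun h => by rw [h, orderOf_one] at hc; omega) hy fun u hu hcu => ?_
    have hd := card_dvd_of_commute h2 hu hcu
    rw [hc, hm] at hd
    have hd' : n ∣ m := (Nat.coprime_two_right.2 hn).dvd_of_dvd_mul_left hd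
    have hn2 : n ∣ 2 := by
      rcases hnm with rfl | h
      · exact (Nat.dvd_add_right (dvd_mul_left n 2)).1 hd'
      · exact (Nat.dvd_add_right hd').1 (h ▸ dvd_mul_left n 2)
    have := Nat.le_of_dvd two_pos hn2
    obtain ⟨k, hk⟩ := hn
    omega
  rcases hq with hq | hq
  · refine main _ _ ?_ ?_ ?_ ((Forms.KleinSL2.natCard_circ_one h2).2 (by omega)) cm ym hcm hym
    · rw [Nat.odd_iff]; omega
    · omega
    · omega
  · refine main _ _ ?_ ?_ ?_ ((Forms.KleinSL2.natCard_circ_one h2).1 (by omega)) cp yp hcp hyp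
    · rw [Nat.odd_iff]; omega
    · omega
    · omega

end psl

theorem two_mul_self : ∀ b : Multiplicative (ZMod 2), b * b = 1 := by decide

/-- The Janko-Ree case. -/
theorem janko_ree {G : Type u} [Group G] [Finite G] [IsSimpleGroup G] (hab : SEAbelian.AbTwo G)
    (hfield : Walter.FieldTriv G) (hJR : Walter.JRShape G) : SqOne G ∧ RealOdd G := by
  haveI := Fact.mk Nat.prime_two
  obtain ⟨-, hcl, t, E, E₀, F, i1, i2, -, -, -, -, hF, hF3, h⟩ := hJR
  obtain ⟨eC⟩ := Walter.nonempty_centralizer_equiv h (hfield t F E₀ (by omega) h)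
  set X := Matrix.ProjectiveSpecialLinearGroup (Fin 2) F
  haveI : Finite X := inferInstance
  have hconj : ∀ u : G, orderOf u = 2 → ∀ x : G, Commute x u →
      ∃ g : G, g * x * g⁻¹ ∈ centralizer ({t} : Set G) := fun u hu x hx => by
    obtain ⟨g, hg⟩ := isConj_iff.1 (hcl u t hu h.ht)
    refine ⟨g, mem_centralizer_singleton_iff.2 ?_⟩
    rw [← hg]
    exact (hx.map (MulAut.conj g).toMonoidHom).eq
  refine ⟨?_, ?_⟩
  · rintro x ⟨j, hj⟩
    by_contra hne
    have hj1 : 2 ≤ j := by
      by_contra hlt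
      exact hne (sq x ▸ orderOf_dvd_iff_pow_eq_one.1 (hj ▸ pow_dvd_pow 2 (show j ≤ 1 by omega)))
    have hu : orderOf (x ^ 2 ^ (j - 1)) = 2 := by
      rw [orderOf_pow_of_dvd (by positivity) (hj ▸ pow_dvd_pow 2 (Nat.sub_le j 1)), hj,
        Nat.pow_div (Nat.sub_le j 1) two_pos, show j - (j - 1) = 1 by omega, pow_one]
    obtain ⟨g, hg⟩ := hconj _ hu x (Commute.self_pow x _)
    set z := eC ⟨g * x * g⁻¹, hg⟩
    have hz : orderOf z ∣ 2 ^ j := by
      rw [eC.orderOf_eq, orderOf_mk, ← hj]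
      exact ((MulAut.conj g).orderOf_eq x).dvd
    have hzz : z * z = 1 := by
      obtain ⟨i, -, hi⟩ := (Nat.dvd_prime_pow Nat.prime_two).1
        ((orderOf_map_dvd (MonoidHom.snd _ X) z).trans hz)
      refine Prod.ext ?_ (sqOne_psl_odd hF hF3 z.2 ⟨i, hi⟩)
      exact two_mul_self z.1
    have := congrArg Subtype.val (eC.injective ((map_mul eC _ _).trans (hzz.trans (map_one eC).symm)))
    exact hne (by simpa [conj_mul] using this)
  have hC : Nat.card (centralizer ({t} : Set G)) = 2 * Nat.card X := by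
    rw [Nat.card_congr eC.toEquiv, Nat.card_prod, Nat.card_congr Multiplicative.toAdd, Nat.card_zmod]
  have hodd : Odd (Fintype.card F) := Nat.odd_iff.2 (by omega)
  have hX := card_pslTwo_odd (F := F) hodd
  have hab' : ∀ P : Sylow 2 G, ∀ a b : P, a * b = b * a := fun P a b =>
    Subtype.ext (hab _ P.2 a a.2 b b.2).eq
  obtain ⟨p, hp, hpd, hpC⟩ : ∃ p : ℕ, p.Prime ∧ p ∣ Nat.card G ∧
      ¬ p ∣ Nat.card (centralizer ({t} : Set G)) := by
    rw [hC, hX]
    rcases Cfsg.Agent.S0343.result hab' (by omega : 3 ≤ Fintype.card F) t h.ht ⟨eC⟩ with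
      ⟨m, hm, hq, hc⟩ | ⟨hq, hJ⟩
    · rw [← hq] at hc
      set q := Fintype.card F with hqd
      have h27 : 27 ≤ q := hq ▸ (show 3 ^ 3 ≤ 3 ^ (2 * m + 1) from
        Nat.pow_le_pow_right (by norm_num) (by omega))
      obtain ⟨s, hs⟩ : ∃ s, q = s + 1 := ⟨q - 1, by omega⟩
      set N := q * s + 1 with hN
      have hcube : q ^ 3 + 1 = (q + 1) * N := by rw [hN, hs]; ring
      have hN1 : N ≠ 1 := by
        have : 27 * 1 ≤ q * s := Nat.mul_le_mul h27 (by omega)
        omega
      refine ⟨N.minFac, Nat.minFac_prime hN1, ?_, fun hd => ?_⟩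
      · rw [hc, hcube]
        exact ((N.minFac_dvd.trans (dvd_mul_left N _)).mul_left _).mul_right _
      have hpr := Nat.minFac_prime hN1
      have hdN := N.minFac_dvd
      set p := N.minFac
      have h1 : p ∣ q * s → False := fun h => hpr.ne_one (Nat.dvd_one.1 ((Nat.dvd_add_right h).1 hdN))
      rw [show q - 1 = s by omega] at hd
      rcases hpr.dvd_mul.1 hd with h | h
      · exact h1 (h.mul_right _)
      rcases hpr.dvd_mul.1 h with h | h
      · exact h1 (h.mul_left _)
      obtain ⟨w, hw⟩ : ∃ w, q = w + 2 := ⟨q - 2, by omega⟩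
      have hsplit : N = (q + 1) * w + 3 := by
        obtain rfl : s = w + 1 := by omega
        rw [hN, hw]; ring
      have h3 : p ∣ 3 := (Nat.dvd_add_right (h.mul_right w)).1 (hsplit ▸ hdN)
      have hp3 := (Nat.prime_dvd_prime_iff_eq hpr Nat.prime_three).1 h3
      exact h1 ((hp3 ▸ hq ▸ dvd_pow_self 3 (by omega) : p ∣ q).mul_right _)
    · rw [hJ.2]
      refine ⟨7, by norm_num, by norm_num, ?_⟩
      rcases hq with hq | hq <;> rw [hq] <;> norm_num
  obtain ⟨j, hj⟩ := Walter.Field.torus_fact G inferInstance hab t F h.ht h.odd (by omega) ⟨eC⟩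
    p hp hpd hpC
  obtain ⟨P, hP⟩ := hj.inv
  haveI := Fact.mk hp
  obtain ⟨⟨x, hx⟩, hxo⟩ := exists_prime_orderOf_dvd_card' (G := (P : Subgroup G)) p
    (P.dvd_card_of_dvd_card hpd)
  rw [orderOf_mk] at hxo
  refine realOdd_of (fun e => hp.ne_one (by rw [← hxo, e, orderOf_one])) (hP x hx)
    fun u hu hxu => hpC ?_
  obtain ⟨g, hg⟩ := hconj u hu x hxu
  rw [← hxo, ← ((MulAut.conj g).orderOf_eq x)]
  exact (orderOf_mk _ hg).symm.dvd.trans (orderOf_dvd_natCard _)

end Cfsg.Agent.RealEven
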