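import Cfsg.Agent.Lib.RealEven.Parity
import Cfsg.Agent.Lib.RealEven.Shapes
import Cfsg.Agent.Lib.Walter.CoatomFact

/-!
# Characters fixed by the odd-part inversion in simple groups with abelian Sylow 2-subgroups
-/

set_option autoImplicit false
set_option linter.style.haveILetI false

namespace Cfsg.Agent.RealEven

universe u

/-- The 2-elements square to one and some real element has a centraliser of odd order. -/
theorem facts {G : Type u} [Group G] [Finite G] [IsSimpleGroup G] (hna : ¬ IsMulCommutative G)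
    (P : Sylow 2 G) (hP : IsMulCommutative (P : Subgroup G)) (hcore : Walter.CoreFact.{u})
    (hfield : Walter.FieldFact.{u}) : SqOne G ∧ RealOdd G := by
  obtain ⟨hcent, hF, -⟩ := Walter.inputs_of_facts hcore hfield Walter.coatomFact hna P hP
  rcases Walter.main hna P hP hcent with ⟨F, i1, i2, ⟨a, ha, hq⟩ | ⟨hq, h3⟩, ⟨e⟩⟩ | hJR
  · exact ⟨(sqOne_psl_even hq).of_equiv e, (realOdd_psl_even hq (by omega)).of_equiv e⟩
  · exact ⟨(sqOne_psl_odd hq h3).of_equiv e, (realOdd_psl_odd hq h3).of_equiv e⟩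
  · exact janko_ree (SEAbelian.abTwo_of_sylow P hP) hF hJR

/-- S4523 from the facts of Walter's theorem. -/
theorem fixed_characters {G : Type u} [Group G] [Finite G] [IsSimpleGroup G]
    (hna : ¬ IsMulCommutative G) (P : Sylow 2 G) (hP : IsMulCommutative (P : Subgroup G))
    (hcore : Walter.CoreFact.{u}) (hfield : Walter.FieldFact.{u}) (M : Ideal Cfsg.AlgInt)
    (hM : Cfsg.IsPModular 2 M) (k : ℕ)
    (hk₁ : ∀ g : G, (∃ j : ℕ, orderOf g = 2 ^ j) → g ^ k = g)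
    (hk₂ : ∀ g : G, Odd (orderOf g) → g ^ k = g⁻¹) :
    (∃ χ₁ : Cfsg.IrrCharacter G, Even (Cfsg.charDegree (χ₁ : G → ℂ)) ∧
        ∀ g : G, (χ₁ : G → ℂ) (g ^ k) = (χ₁ : G → ℂ) g) ∧
      ∃ χ₂ ∈ Cfsg.principalBlock M G, (χ₂ : G → ℂ) ≠ (fun _ => 1) ∧
        ∀ g : G, (χ₂ : G → ℂ) (g ^ k) = (χ₂ : G → ℂ) g := by
  obtain ⟨hsq, g, hg, hc, ho⟩ := facts hna P hP hcore hfield
  have hfix : ∀ χ : Cfsg.IrrCharacter G, (∀ x : G, ((χ : G → ℂ) x).im = 0) →
      ∀ x : G, (χ : G → ℂ) (x ^ k) = (χ : G → ℂ) x := fun χ h x => by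
    rw [pow_eq_inv hsq hk₁ hk₂, Characters.char_inv (Characters.irr_isCharacter χ),
      Complex.conj_eq_iff_im.2 (h x)]
  have heven : Even (Nat.card G) := Nat.not_odd_iff_even.1 fun h => by
    refine hna ⟨⟨fun a b => ?_⟩⟩
    exact (IsSimpleGroup.comm_iff_isSolvable (G := G)).2 (Cfsg.Agent.S0205.result h) a b
  obtain ⟨χ₁, h1, hev⟩ := exists_real_even hM hg hc ho
  obtain ⟨χ₂, hne, h2, hodd⟩ := exists_real_odd heven
  exact ⟨⟨χ₁, hev, hfix χ₁ h1⟩, χ₂, Blocks.mem_principal_of_real_odd hM χ₂ h2 hodd,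
    fun h => hne (Subtype.ext h), hfix χ₂ h2⟩

end Cfsg.Agent.RealEven
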