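import Cfsg.Agent.Lib.Blocks.RealBlocks
import Cfsg.Agent.Lib.Characters.Inner

/-!
# Real characters of odd and of even degree

In a group of even order some nontrivial irreducible character of odd degree is real. If a nontrivial
element conjugate to its inverse has a centraliser of odd order, some real irreducible character has
even degree.
-/

set_option autoImplicit false
set_option linter.unusedSectionVars false

namespace Cfsg.Agent.RealEven

open Cfsg.Agent.Characters Cfsg.Agent.Blocks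
open scoped ComplexConjugate

universe u

variable {G : Type u} [Group G] [Finite G]

theorem starIrr_eq_self_iff {χ : Cfsg.IrrCharacter G} :
    starIrr χ = χ ↔ ∀ g : G, ((χ : G → ℂ) g).im = 0 :=
  ⟨fun h g => Complex.conj_eq_iff_im.1 (by rw [← coe_starIrr, h]),
    fun h => Subtype.ext (funext fun g => Complex.conj_eq_iff_im.2 (h g))⟩

theorem charDegree_starIrr (χ : Cfsg.IrrCharacter G) :
    Cfsg.charDegree (starIrr χ : G → ℂ) = Cfsg.charDegree (χ : G → ℂ) := by
  simp [Cfsg.charDegree, coe_starIrr]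

/-- In characteristic two a sum with conjugate terms equal is the sum over the real characters. -/
theorem sum_eq_sum_real [Fintype (Cfsg.IrrCharacter G)] [DecidableEq (Cfsg.IrrCharacter G)]
    {R : Type*} [CommRing R] (h2 : (2 : R) = 0) (f : Cfsg.IrrCharacter G → R)
    (hf : ∀ χ, f (starIrr χ) = f χ) :
    ∑ χ, f χ = ∑ χ ∈ Finset.univ.filter (fun χ => starIrr χ = χ), f χ := by
  rw [← Finset.sum_filter_add_sum_filter_not Finset.univ (fun χ => starIrr χ = χ) f]
  refine add_eq_left.2 ?_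
  refine Finset.sum_involution (fun χ _ => starIrr χ) (fun χ _ => ?_) (fun χ hχ _ => ?_)
    (fun χ hχ => ?_) (fun χ _ => starIrr_starIrr χ)
  · rw [hf, ← two_mul, h2, zero_mul]
  · exact (Finset.mem_filter.1 hχ).2
  · refine Finset.mem_filter.2 ⟨Finset.mem_univ _, fun h => (Finset.mem_filter.1 hχ).2 ?_⟩
    rw [starIrr_starIrr] at h
    exact h.symm

/-- A group of even order has a nontrivial real irreducible character of odd degree. -/
theorem exists_real_odd (h : Even (Nat.card G)) :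
    ∃ χ : Cfsg.IrrCharacter G, χ ≠ trivIrr G ∧ (∀ g : G, ((χ : G → ℂ) g).im = 0) ∧
      Odd (Cfsg.charDegree (χ : G → ℂ)) := by
  classical
  haveI := Fintype.ofFinite (Cfsg.IrrCharacter G)
  by_contra hno
  have hsum : ((∑ χ : Cfsg.IrrCharacter G, Cfsg.charDegree (χ : G → ℂ) ^ 2 : ℕ) : ℂ) =
      (Nat.card G : ℂ) := by
    push_cast
    simp only [charDegree_cast]
    exact sum_degree_sq
  have h0 : ∑ χ : Cfsg.IrrCharacter G, ((Cfsg.charDegree (χ : G → ℂ) ^ 2 : ℕ) : ZMod 2) = 0 := by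
    rw [← Nat.cast_sum, Nat.cast_inj.1 hsum]
    exact (ZMod.natCast_eq_zero_iff_even).2 h
  rw [sum_eq_sum_real (CharTwo.two_eq_zero) _ (fun χ => by rw [charDegree_starIrr]),
    Finset.sum_eq_single (trivIrr G)] at h0
  · simp [Cfsg.charDegree] at h0
  · intro χ hχ hne
    refine ZMod.natCast_eq_zero_iff_even.2 ?_
    refine Nat.even_pow.2 ⟨Nat.not_odd_iff_even.1 fun ho => hno
      ⟨χ, hne, starIrr_eq_self_iff.1 (Finset.mem_filter.1 hχ).2, ho⟩, two_ne_zero⟩
  · intro hn
    refine absurd ?_ hn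
    rw [Finset.mem_filter]
    exact ⟨Finset.mem_univ _, starIrr_eq_self_iff.2 fun g => by simp⟩

/-- A real element with centraliser of odd order forces a real character of even degree. -/
theorem exists_real_even {M : Ideal Cfsg.AlgInt} (hM : Cfsg.IsPModular 2 M) {g : G} (hg : g ≠ 1)
    (hreal : IsConj g g⁻¹) (hodd : Odd (Nat.card (Subgroup.centralizer ({g} : Set G)))) :
    ∃ χ : Cfsg.IrrCharacter G, (∀ x : G, ((χ : G → ℂ) x).im = 0) ∧
      Even (Cfsg.charDegree (χ : G → ℂ)) := by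
  classical
  haveI := Fintype.ofFinite (Cfsg.IrrCharacter G)
  haveI := hM.2.1
  by_contra hno
  set a : Cfsg.IrrCharacter G → Cfsg.AlgInt :=
    fun χ => ⟨(χ : G → ℂ) g, char_value_isIntegral (irr_isCharacter χ) g⟩ with ha
  set q := Ideal.Quotient.mk M
  have h2 : (2 : Cfsg.AlgInt ⧸ M) = 0 := by
    rw [← map_ofNat q 2]
    exact Ideal.Quotient.eq_zero_iff_mem.2 (by simpa using hM.2.2)
  have hval : ∀ χ : Cfsg.IrrCharacter G, conj ((χ : G → ℂ) g) = (χ : G → ℂ) g := fun χ => by
    obtain ⟨y, hy⟩ := isConj_iff.1 hreal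
    rw [← char_inv (irr_isCharacter χ), ← hy]
    exact irr_isClassFunction χ g y
  have hstar : ∀ χ, a (starIrr χ) = a χ := fun χ => Subtype.ext (hval χ)
  have hsq : (∑ χ, a χ ^ 2) = (Nat.card (Subgroup.centralizer ({g} : Set G)) : Cfsg.AlgInt) := by
    refine Subtype.ext ?_
    push_cast
    have h := second_orthogonality g g
    rw [if_pos (IsConj.refl g)] at h
    rw [← h]
    exact Finset.sum_congr rfl fun χ _ => by rw [hval, sq]
  have hlin : (∑ χ : Cfsg.IrrCharacter G, (Cfsg.charDegree (χ : G → ℂ) : Cfsg.AlgInt) * a χ) = 0 := by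
    refine Subtype.ext ?_
    push_cast
    have h := second_orthogonality g 1
    rw [if_neg (fun e => hg (isConj_one_left.1 e))] at h
    rw [← h]
    refine Finset.sum_congr rfl fun χ _ => ?_
    rw [charDegree_cast, mul_comm]
    obtain ⟨n, -, hn⟩ := irr_one_pos χ.2
    simp [ha, hn]
  have e1 := congrArg q hsq
  have e2 := congrArg q hlin
  rw [map_sum, sum_eq_sum_real h2 _ (fun χ => by rw [hstar])] at e1
  rw [map_sum, map_zero, sum_eq_sum_real h2 _ (fun χ => by rw [hstar, charDegree_starIrr])] at e2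
  have hone : ∀ {n : ℕ}, Odd n → (n : Cfsg.AlgInt ⧸ M) = 1 := by
    rintro n ⟨k, rfl⟩
    push_cast
    rw [h2, zero_mul, zero_add]
  rw [map_natCast, hone hodd] at e1
  have e2' : ∑ χ ∈ Finset.univ.filter (fun χ => starIrr χ = χ), q (a χ) = 0 := by
    rw [← e2]
    refine Finset.sum_congr rfl fun χ hχ => ?_
    rw [map_mul, map_natCast, hone (Nat.not_even_iff_odd.1 fun he => hno
      ⟨χ, starIrr_eq_self_iff.1 (Finset.mem_filter.1 hχ).2, he⟩), one_mul]
  haveI : Nontrivial (Cfsg.AlgInt ⧸ M) := Ideal.Quotient.nontrivial_iff.2 hM.2.1.ne_top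
  haveI : CharP (Cfsg.AlgInt ⧸ M) 2 := CharTwo.of_one_ne_zero_of_two_eq_zero one_ne_zero h2
  simp only [map_pow] at e1
  rw [← CharTwo.sum_sq, e2', zero_pow two_ne_zero] at e1
  exact zero_ne_one e1

/-- When the 2-elements square to one, the power map of the statement is inversion. -/
theorem pow_eq_inv (hsq : ∀ x : G, (∃ j : ℕ, orderOf x = 2 ^ j) → x * x = 1) {k : ℕ}
    (hk₁ : ∀ g : G, (∃ j : ℕ, orderOf g = 2 ^ j) → g ^ k = g)
    (hk₂ : ∀ g : G, Odd (orderOf g) → g ^ k = g⁻¹) (g : G) : g ^ k = g⁻¹ := by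
  obtain ⟨i, m, hm, hn⟩ := Nat.exists_eq_two_pow_mul_odd (orderOf_pos g).ne'
  have hm0 : m ≠ 0 := fun h => by simp [h] at hm
  have ha : orderOf (g ^ m) = 2 ^ i := by
    rw [orderOf_pow_of_dvd hm0 (hn ▸ dvd_mul_left m _), hn,
      Nat.mul_div_cancel _ (Nat.pos_of_ne_zero hm0)]
  have hb : orderOf (g ^ 2 ^ i) = m := by
    rw [orderOf_pow_of_dvd (by positivity) (hn ▸ dvd_mul_right _ m), hn,
      Nat.mul_div_cancel_left _ (by positivity)]
  have h1 : (g ^ (k + 1)) ^ m = 1 := by
    rw [← pow_mul, mul_comm, pow_mul, pow_succ, hk₁ _ ⟨i, ha⟩]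
    exact hsq _ ⟨i, ha⟩
  have h2 : (g ^ (k + 1)) ^ 2 ^ i = 1 := by
    rw [← pow_mul, mul_comm, pow_mul, pow_succ, hk₂ _ (hb.symm ▸ hm), inv_mul_cancel]
  have h := Nat.dvd_gcd (orderOf_dvd_of_pow_eq_one h1) (orderOf_dvd_of_pow_eq_one h2)
  rw [Nat.Coprime.gcd_eq_one ((Nat.coprime_two_right.2 hm).pow_right i), Nat.dvd_one,
    orderOf_eq_one_iff, pow_succ] at h
  exact eq_inv_of_mul_eq_one_left h

end Cfsg.Agent.RealEven
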